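import Mathlib

/-!
Strong approximation for a number field off one finite place.
-/

set_option autoImplicit false

open IsDedekindDomain NumberField NumberField.InfinitePlace Module
open WithZero (exp exp_log exp_zero exp_le_exp exp_pos exp_add)
open scoped WithZero nonZeroDivisors NNReal ENNReal

namespace Groth.Agent.StrongApproxH28

universe u

variable (k : Type u) [Field k] [NumberField k]

local notation "O" => RingOfIntegers k
local notation "Pl" => HeightOneSpectrum (RingOfIntegers k)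

theorem finite_dvd {r : O} (hr : r ≠ 0) : {v : Pl | r ∈ v.asIdeal}.Finite := by
  refine (Ideal.finite_factors (I := Ideal.span {r})
    (by rwa [Ne, Submodule.zero_eq_bot, Ideal.span_singleton_eq_bot])).subset fun v hv => ?_
  exact Ideal.dvd_span_singleton.2 hv

theorem finite_valuation_ne_one {x : k} (hx : x ≠ 0) :
    {v : Pl | v.valuation k x ≠ 1}.Finite := by
  obtain ⟨a, b, hb, rfl⟩ := IsFractionRing.div_surjective O x
  have hb0 : b ≠ 0 := nonZeroDivisors.ne_zero hb
  have ha0 : a ≠ 0 := fun h => hx (by rw [h, map_zero, zero_div])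
  refine ((finite_dvd k ha0).union (finite_dvd k hb0)).subset fun v hv => ?_
  by_contra h
  simp only [Set.mem_union, Set.mem_ofPred_eq, not_or] at h
  exact hv (by rw [map_div₀, (v.valuation_eq_one_iff_notMem (K := k)).2 h.1,
    (v.valuation_eq_one_iff_notMem (K := k)).2 h.2, div_one])

variable {k}

theorem val_le_exp_iff (v : Pl) (r : O) (N : ℕ) :
    v.valuation k (algebraMap O k r) ≤ exp (-(N : ℤ)) ↔ r ∈ v.asIdeal ^ N := by
  rw [v.valuation_of_algebraMap]
  exact v.intValuation_le_pow_iff_mem r N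

theorem exists_exp_le (v : Pl) {r : O} (hr : r ≠ 0) :
    ∃ e : ℕ, v.valuation k (algebraMap O k r) = exp (-(e : ℤ)) := by
  have h1 : v.valuation k (algebraMap O k r) ≠ 0 :=
    (Valuation.ne_zero_iff _).2 ((map_ne_zero_iff _ (IsFractionRing.injective O k)).2 hr)
  have h2 := v.valuation_le_one (K := k) r
  obtain ⟨m, hm⟩ : ∃ m : ℤ, v.valuation k (algebraMap O k r) = exp m :=
    ⟨_, (exp_log h1).symm⟩
  rw [hm, ← exp_zero, exp_le_exp] at h2
  exact ⟨(-m).toNat, by rw [hm, Int.toNat_of_nonneg (by omega), neg_neg]⟩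

/-- A small element with prescribed divisibility, integral outside `v₀`. -/
theorem exists_small (v₀ : Pl) (F : Finset Pl) (hv₀ : v₀ ∉ F) (N : ℕ) (δ : ℝ) (hδ : 0 < δ) :
    ∃ x : k, x ≠ 0 ∧ (∀ v : Pl, v ≠ v₀ → v.valuation k x ≤ 1) ∧
      (∀ v ∈ F, v.valuation k x ≤ exp (-(N : ℤ))) ∧ ∀ w : InfinitePlace k, w x < δ := by
  classical
  let J : Ideal O := ∏ v ∈ F, v.asIdeal ^ N
  have hJ0 : J ≠ ⊥ := Finset.prod_ne_zero_iff.2 fun v _ => pow_ne_zero _ v.ne_bot
  let f : InfinitePlace k → ℝ≥0 := fun _ => ⟨δ, hδ.le⟩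
  have hvol : (0 : ℝ≥0∞) < MeasureTheory.volume (mixedEmbedding.convexBodyLT k f) := by
    rw [mixedEmbedding.convexBodyLT_volume, ← ENNReal.coe_mul, ENNReal.coe_pos, pos_iff_ne_zero]
    refine mul_ne_zero (mixedEmbedding.convexBodyLTFactor_ne_zero k)
      (Finset.prod_ne_zero_iff.2 fun w _ => pow_ne_zero _ ?_)
    exact fun h => hδ.ne' (congrArg NNReal.toReal h)
  have hq : 1 < Ideal.absNorm v₀.asIdeal := by
    have h1 : Ideal.absNorm v₀.asIdeal ≠ 1 := fun h =>
      v₀.isPrime.ne_top (Ideal.absNorm_eq_one_iff.1 h)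
    have h2 : Ideal.absNorm v₀.asIdeal ≠ 0 := fun h => v₀.ne_bot (Ideal.absNorm_eq_zero_iff.1 h)
    omega
  set V := MeasureTheory.volume (ZSpan.fundamentalDomain (mixedEmbedding.latticeBasis k)) *
    (2 : ℝ≥0∞) ^ finrank ℝ (mixedEmbedding.mixedSpace k) with hV
  have hVtop : V ≠ ⊤ := ENNReal.mul_ne_top
    (ZSpan.fundamentalDomain_isBounded _).measure_lt_top.ne (ENNReal.pow_ne_top ENNReal.ofNat_ne_top)
  obtain ⟨m, hm⟩ : ∃ m : ℕ, ENNReal.ofReal ((Ideal.absNorm J : ℝ) / (Ideal.absNorm v₀.asIdeal : ℝ) ^ m) * V <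
      MeasureTheory.volume (mixedEmbedding.convexBodyLT k f) := by
    have h1 : Filter.Tendsto (fun m : ℕ => (Ideal.absNorm J : ℝ) / (Ideal.absNorm v₀.asIdeal : ℝ) ^ m)
        Filter.atTop (nhds 0) :=
      tendsto_const_nhds.div_atTop (tendsto_pow_atTop_atTop_of_one_lt (by exact_mod_cast hq))
    have h2 := ENNReal.Tendsto.mul_const (ENNReal.tendsto_ofReal h1) (Or.inr hVtop) (b := V)
    rw [ENNReal.ofReal_zero, zero_mul] at h2
    exact (h2.eventually (gt_mem_nhds hvol)).exists
  have hne : ((J : FractionalIdeal O⁰ k) / ((v₀.asIdeal : FractionalIdeal O⁰ k) ^ m)) ≠ 0 := by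
    refine div_ne_zero ?_ (pow_ne_zero _ ?_)
    · exact FractionalIdeal.coeIdeal_ne_zero.2 hJ0
    · exact FractionalIdeal.coeIdeal_ne_zero.2 v₀.ne_bot
  let I := Units.mk0 _ hne
  have hnorm : ((FractionalIdeal.absNorm I.1 : ℚ) : ℝ) =
      (Ideal.absNorm J : ℝ) / (Ideal.absNorm v₀.asIdeal : ℝ) ^ m := by
    simp [I, Units.val_mk0, map_div₀, FractionalIdeal.coeIdeal_absNorm]
  have hmink : mixedEmbedding.minkowskiBound k I <
      MeasureTheory.volume (mixedEmbedding.convexBodyLT k f) := by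
    rw [mixedEmbedding.minkowskiBound, mixedEmbedding.volume_fundamentalDomain_fractionalIdealLatticeBasis,
      mul_assoc, hnorm]
    exact hm
  obtain ⟨x, hx, hx0, hw⟩ := mixedEmbedding.exists_ne_zero_mem_ideal_lt k I hmink
  have hxv : ∀ v : Pl, v ≠ v₀ → ∃ b : O, b ∈ J ∧ v.valuation k x = v.valuation k (algebraMap O k b) := by
    intro v hv
    have hnle : ¬ v₀.asIdeal ^ m ≤ v.asIdeal := by
      intro h
      have := (v₀.isMaximal.eq_of_le v.isPrime.ne_top (v.isPrime.le_of_pow_le h))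
      exact hv (HeightOneSpectrum.ext this.symm)
    obtain ⟨e, he, hev⟩ := SetLike.not_le_iff_exists.1 hnle
    have h1 : x * algebraMap O k e ∈ (J : FractionalIdeal O⁰ k) := by
      have h2 := FractionalIdeal.mul_mem_mul hx (show algebraMap O k e ∈
        ((v₀.asIdeal : FractionalIdeal O⁰ k) ^ m) by
          rw [← FractionalIdeal.coeIdeal_pow]
          exact FractionalIdeal.mem_coeIdeal_of_mem _ he)
      rwa [Units.val_mk0, div_mul_cancel₀ _
        (pow_ne_zero _ (FractionalIdeal.coeIdeal_ne_zero.2 v₀.ne_bot))] at h2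
    obtain ⟨b, hb, hbx⟩ := (FractionalIdeal.mem_coeIdeal _).1 h1
    refine ⟨b, hb, ?_⟩
    rw [hbx, map_mul, (v.valuation_eq_one_iff_notMem (K := k)).2 hev, mul_one]
  refine ⟨x, hx0, fun v hv => ?_, fun v hv => ?_, fun w => hw w⟩
  · obtain ⟨b, -, hb⟩ := hxv v hv
    exact hb ▸ v.valuation_le_one b
  · obtain ⟨b, hbJ, hb⟩ := hxv v fun h => hv₀ (h ▸ hv)
    rw [hb, val_le_exp_iff]
    exact Ideal.le_of_dvd (Finset.dvd_prod_of_mem _ hv) hbJ

/-- Every element of `k` is boundedly close to an integer at all infinite places. -/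
theorem exists_round : ∃ C : ℝ, 0 < C ∧ ∀ z : k, ∃ o : O, ∀ w : InfinitePlace k,
    w (algebraMap O k o - z) ≤ C := by
  classical
  let B := RingOfIntegers.basis k
  refine ⟨1 + ∑ i, ∑ w : InfinitePlace k, w (algebraMap O k (B i)), by
    have : 0 ≤ ∑ i, ∑ w : InfinitePlace k, w (algebraMap O k (B i)) :=
      Finset.sum_nonneg fun i _ => Finset.sum_nonneg fun w _ => apply_nonneg w _
    linarith, fun z => ⟨∑ i, ⌊(integralBasis k).repr z i⌋ • B i, fun w => ?_⟩⟩
  have hz : algebraMap O k (∑ i, ⌊(integralBasis k).repr z i⌋ • B i) - z =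
      ∑ i, (((⌊(integralBasis k).repr z i⌋ : ℚ) - (integralBasis k).repr z i : ℚ) : k) *
        algebraMap O k (B i) := by
    conv_lhs => arg 2; rw [← (integralBasis k).sum_repr z]
    rw [map_sum, ← Finset.sum_sub_distrib]
    refine Finset.sum_congr rfl fun i _ => ?_
    rw [map_zsmul, zsmul_eq_mul, integralBasis_apply, Rat.smul_def]
    push_cast
    ring
  rw [hz]
  refine (IsAbsoluteValue.abv_sum w.1 _ _).trans ?_
  refine (Finset.sum_le_sum fun i _ => ?_).trans (le_add_of_nonneg_left zero_le_one)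
  show w ((_ : k) * _) ≤ _
  rw [map_mul]
  refine (mul_le_of_le_one_left (apply_nonneg w _) ?_).trans
    (Finset.single_le_sum (fun w' _ => apply_nonneg w' _) (Finset.mem_univ w))
  rw [← norm_embedding_eq, map_ratCast, Complex.norm_ratCast]
  have h1 := Int.floor_le ((integralBasis k).repr z i)
  have h2 := Int.lt_floor_add_one ((integralBasis k).repr z i)
  have h3 : |(⌊(integralBasis k).repr z i⌋ : ℚ) - (integralBasis k).repr z i| ≤ 1 := by
    rw [abs_le]; constructor <;> linarith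
  exact_mod_cast h3

/-- Strong approximation off `v₀`. -/
theorem strong_approx (v₀ : Pl) (F : Finset Pl) (hv₀ : v₀ ∉ F) (t : Pl → k) (N : ℕ) (T : k)
    (ε : ℝ) (hε : 0 < ε) :
    ∃ a : k, (∀ v : Pl, v ∉ F → v ≠ v₀ → v.valuation k a ≤ 1) ∧
      (∀ v ∈ F, v.valuation k (a - t v) ≤ exp (-(N : ℤ))) ∧ ∀ w : InfinitePlace k, w (a - T) < ε := by
  classical
  obtain ⟨d, hd⟩ := IsLocalization.exist_integer_multiples O⁰ F t
  have hd0 : (d : O) ≠ 0 := nonZeroDivisors.ne_zero d.2
  choose c hc using hd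
  choose e he using fun v : Pl => exists_exp_le (k := k) v hd0
  let G : Finset Pl := F ∪ (finite_dvd k hd0).toFinset
  obtain ⟨b, hb⟩ := IsDedekindDomain.exists_forall_sub_mem_ideal (s := G)
    (fun v : Pl => v.asIdeal) (fun v => if v ∈ F then N + e v else e v)
    (fun v _ => v.prime) (fun v _ v' _ h h' => h (HeightOneSpectrum.ext h'))
    (fun v => if h : (v : Pl) ∈ F then c v h else 0)
  have hdk : algebraMap O k (d : O) ≠ 0 := (map_ne_zero_iff _ (IsFractionRing.injective O k)).2 hd0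
  let a₀ := algebraMap O k b / algebraMap O k (d : O)
  have ha₀F : ∀ v ∈ F, v.valuation k (a₀ - t v) ≤ exp (-(N : ℤ)) := by
    intro v hv
    have h1 := hb v (Finset.mem_union_left _ hv)
    simp only [dif_pos hv, if_pos hv] at h1
    rw [← val_le_exp_iff (k := k), map_sub, hc v hv, Algebra.smul_def] at h1
    have h2 : a₀ - t v = (algebraMap O k b - algebraMap O k (d : O) * t v) / algebraMap O k (d : O) := by
      simp only [a₀]; field_simp
    rw [h2, map_div₀, he, div_le_iff₀ (by exact exp_pos), ← exp_add]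
    refine h1.trans (le_of_eq ?_)
    congr 1
    push_cast
    ring
  have ha₀ : ∀ v : Pl, v ∉ F → v.valuation k a₀ ≤ 1 := by
    intro v hv
    rw [map_div₀, he, div_le_iff₀ (by exact exp_pos), one_mul]
    by_cases hvd : (d : O) ∈ v.asIdeal
    · have h1 := hb v (Finset.mem_union_right _ (by simpa using hvd))
      simp only [dif_neg hv, if_neg hv, sub_zero] at h1
      exact (val_le_exp_iff v b _).2 h1
    · rw [← he, (v.valuation_eq_one_iff_notMem (K := k)).2 hvd]
      exact v.valuation_le_one b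
  obtain ⟨C, hC, hround⟩ := exists_round (k := k)
  obtain ⟨x, hx0, hx1, hxF, hxw⟩ := exists_small v₀ F hv₀ N (ε / (2 * C)) (by positivity)
  obtain ⟨o, ho⟩ := hround ((T - a₀) / x)
  refine ⟨a₀ + x * algebraMap O k o, fun v hv hv0 => ?_, fun v hv => ?_, fun w => ?_⟩
  · refine (Valuation.map_add _ _ _).trans (max_le (ha₀ v hv) ?_)
    rw [map_mul]
    exact mul_le_one' (hx1 v hv0) (v.valuation_le_one o)
  · rw [add_sub_right_comm]
    refine (Valuation.map_add _ _ _).trans (max_le (ha₀F v hv) ?_)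
    rw [map_mul]
    exact (mul_le_of_le_one_right' (v.valuation_le_one o)).trans (hxF v hv)
  · have h : a₀ + x * algebraMap O k o - T = x * (algebraMap O k o - (T - a₀) / x) := by
      field_simp; ring
    rw [h, map_mul]
    calc w x * w (algebraMap O k o - (T - a₀) / x) ≤ (ε / (2 * C)) * C :=
          mul_le_mul (hxw w).le (ho w) (apply_nonneg w _) (by positivity)
      _ = ε / 2 := by field_simp
      _ < ε := half_lt_self hε

end Groth.Agent.StrongApproxH28
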