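import Mathlib
import Groth.Agent.Lib.VarDim.Alg
import Groth.Agent.Lib.StrongApproxH28.Approx

/-!
Polynomials along lines, and strong approximation for the complement of a codimension two subset.
-/

set_option autoImplicit false

open MvPolynomial IsDedekindDomain NumberField
open WithZero (exp exp_log exp_zero exp_le_exp exp_pos exp_lt_exp)
open scoped WithZero

namespace Groth.Agent.StrongApproxH28

universe u

theorem coeff_top_line {R : Type*} [CommRing R] {σ : Type*} (g : MvPolynomial σ R) (a u : σ → R)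
    (D : ℕ) (hD : g.totalDegree ≤ D) :
    (aeval (fun i => Polynomial.C (a i) + Polynomial.C (u i) * Polynomial.X) g).natDegree ≤ D ∧
    (aeval (fun i => Polynomial.C (a i) + Polynomial.C (u i) * Polynomial.X) g).coeff D =
      eval u (homogeneousComponent D g) := by
  classical
  have hmon : ∀ s ∈ g.support, (Finset.sum s.support fun i => s i) ≤ D := fun s hs =>
    (le_totalDegree hs).trans hD
  have hexp : aeval (fun i => Polynomial.C (a i) + Polynomial.C (u i) * Polynomial.X) g =
      ∑ s ∈ g.support, Polynomial.C (g.coeff s) *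
        ∏ i ∈ s.support, (Polynomial.C (a i) + Polynomial.C (u i) * Polynomial.X) ^ s i := by
    rw [aeval_def, eval₂_eq]
    rfl
  have hlin : ∀ i, (Polynomial.C (a i) + Polynomial.C (u i) * Polynomial.X).natDegree ≤ 1 := fun i => by
    refine (Polynomial.natDegree_add_le _ _).trans (max_le (by simp) ?_)
    exact (Polynomial.natDegree_C_mul_le _ _).trans Polynomial.natDegree_X_le
  have hdeg : ∀ s : σ →₀ ℕ,
      (∏ i ∈ s.support, (Polynomial.C (a i) + Polynomial.C (u i) * Polynomial.X) ^ s i).natDegree ≤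
        ∑ i ∈ s.support, s i := fun s =>
    (Polynomial.natDegree_prod_le _ _).trans (Finset.sum_le_sum fun i _ =>
      Polynomial.natDegree_pow_le_of_le (s i) (hlin i) |>.trans (le_of_eq (mul_one _)))
  have hlead : ∀ s : σ →₀ ℕ,
      (∏ i ∈ s.support, (Polynomial.C (a i) + Polynomial.C (u i) * Polynomial.X) ^ s i).coeff
        (∑ i ∈ s.support, s i) = ∏ i ∈ s.support, u i ^ s i := by
    intro s
    have h1 : ∀ t : Finset σ, (∏ i ∈ t, (Polynomial.C (a i) + Polynomial.C (u i) * Polynomial.X) ^ s i).natDegree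
        ≤ ∑ i ∈ t, s i ∧ (∏ i ∈ t, (Polynomial.C (a i) + Polynomial.C (u i) * Polynomial.X) ^ s i).coeff
        (∑ i ∈ t, s i) = ∏ i ∈ t, u i ^ s i := by
      intro t
      induction t using Finset.induction with
      | empty => simp
      | insert i t hi ih =>
        have hp : ((Polynomial.C (a i) + Polynomial.C (u i) * Polynomial.X) ^ s i).natDegree ≤ s i :=
          (Polynomial.natDegree_pow_le_of_le (s i) (hlin i)).trans (le_of_eq (mul_one _))
        rw [Finset.prod_insert hi, Finset.sum_insert hi, Finset.prod_insert hi]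
        refine ⟨Polynomial.natDegree_mul_le.trans (add_le_add hp ih.1), ?_⟩
        rw [Polynomial.coeff_mul_add_eq_of_natDegree_le hp ih.1, ih.2]
        congr 1
        have h2 := Polynomial.coeff_pow_of_natDegree_le (n := 1) (m := s i) (hlin i)
        rw [mul_one] at h2
        rw [h2]
        simp
    exact (h1 _).2
  refine ⟨?_, ?_⟩
  · rw [hexp]
    refine Polynomial.natDegree_sum_le_of_forall_le _ _ fun s hs => ?_
    exact (Polynomial.natDegree_C_mul_le _ _).trans ((hdeg s).trans (hmon s hs))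
  · rw [hexp, Polynomial.finsetSum_coeff, homogeneousComponent_apply, map_sum, Finset.sum_filter]
    refine Finset.sum_congr rfl fun s hs => ?_
    rw [Polynomial.coeff_C_mul]
    split_ifs with h
    · rw [eval_monomial, ← h, Finsupp.degree, Finsupp.prod]
      exact congrArg (g.coeff s * ·) (hlead s)
    · have hlt : (∑ i ∈ s.support, s i) < D := lt_of_le_of_ne (hmon s hs) h
      rw [Polynomial.coeff_eq_zero_of_natDegree_lt ((hdeg s).trans_lt hlt), mul_zero]

variable {k : Type u} [Field k]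

/-- An element of the ideal invariant along a direction, when the zero locus has codimension two. -/
theorem exists_invariant {n : ℕ} (I : Ideal (MvPolynomial (Fin n) k))
    (hdim : ringKrullDim (MvPolynomial (Fin n) k ⧸ I) + 2 ≤ (n : WithBot ℕ∞)) (u : Fin n → k)
    (hu : u ≠ 0) :
    ∃ r ∈ I, r ≠ 0 ∧ ∀ (P : Fin n → k) (s : k), eval (fun i => P i + s * u i) r = eval P r := by
  classical
  obtain ⟨i₀, hi₁⟩ := Function.ne_iff.1 hu
  have hi₀ : u i₀ ≠ 0 := hi₁
  let φ : MvPolynomial {i // i ≠ i₀} k →ₐ[k] MvPolynomial (Fin n) k :=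
    aeval (fun i => X i.1 - C (u i.1 / u i₀) * X i₀)
  have hinj : Function.Injective φ := by
    let ψ : MvPolynomial (Fin n) k →ₐ[k] MvPolynomial {i // i ≠ i₀} k :=
      aeval (fun i => if h : i = i₀ then 0 else X ⟨i, h⟩)
    have hid : ψ.comp φ = AlgHom.id k _ := MvPolynomial.algHom_ext fun i => by
      simp [φ, ψ, i.2, MvPolynomial.algebraMap_eq]
    intro p q hpq
    simpa [← AlgHom.comp_apply, hid] using congrArg ψ hpq
  have hinv : ∀ (P : Fin n → k) (s : k) q, eval (fun i => P i + s * u i) (φ q) = eval P (φ q) := by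
    intro P s q
    have h : (aeval (fun i => P i + s * u i)).comp φ = (aeval P).comp φ :=
      MvPolynomial.algHom_ext fun i => by
        simp only [AlgHom.comp_apply, φ, aeval_X, map_sub, map_mul, aeval_C, Algebra.algebraMap_self,
          RingHom.id_apply]
        field_simp
        ring
    exact DFunLike.congr_fun h q
  by_cases hex : ∃ q, q ≠ 0 ∧ φ q ∈ I
  · obtain ⟨q, hq0, hqI⟩ := hex
    exact ⟨φ q, hqI, (map_ne_zero_iff φ hinj).2 hq0, fun P s => hinv P s q⟩
  exfalso
  push Not at hex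
  let S : Submonoid (MvPolynomial (Fin n) k) :=
    (nonZeroDivisors (MvPolynomial {i // i ≠ i₀} k)).map φ
  obtain ⟨P, hPp, hIP, hPS⟩ := Ideal.exists_le_prime_disjoint I S (Set.disjoint_left.2 fun x hx hxS => by
    obtain ⟨q, hq, rfl⟩ := hxS
    exact hex q (nonZeroDivisors.ne_zero hq) hx)
  let ι : MvPolynomial {i // i ≠ i₀} k →ₐ[k] MvPolynomial (Fin n) k ⧸ P :=
    (Ideal.Quotient.mkₐ k P).comp φ
  have hι : Function.Injective ι := by
    refine (injective_iff_map_eq_zero ι).2 fun q hq => ?_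
    by_contra h0
    exact Set.disjoint_left.1 hPS (Ideal.Quotient.eq_zero_iff_mem.1 hq)
      ⟨q, mem_nonZeroDivisors_of_ne_zero h0, rfl⟩
  have htr := trdeg_le_of_injective ι hι
  rw [MvPolynomial.trdeg_of_isDomain, VarDim.trdeg_eq_tdeg k (MvPolynomial (Fin n) k ⧸ P)] at htr
  simp only [Cardinal.lift_uzero, Cardinal.mk_fintype, Fintype.card_subtype_compl,
    Fintype.card_fin, Fintype.card_subtype_eq, Cardinal.lift_natCast, Nat.cast_le] at htr
  have h2 : ringKrullDim (MvPolynomial (Fin n) k ⧸ P) ≤ ringKrullDim (MvPolynomial (Fin n) k ⧸ I) :=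
    ringKrullDim_le_of_surjective _ (Ideal.Quotient.factor_surjective hIP)
  rw [VarDim.ringKrullDim_eq_tdeg k (MvPolynomial (Fin n) k ⧸ P)] at h2
  have h3 : ((n - 1 + 2 : ℕ) : WithBot ℕ∞) ≤ (n : WithBot ℕ∞) := by
    refine le_trans ?_ hdim
    push_cast
    refine add_le_add_left ?_ _ |>.trans le_rfl
    exact le_trans (by exact_mod_cast htr) h2
  have : n - 1 + 2 ≤ n := by exact_mod_cast h3
  omega

section NumberField

variable [NumberField k]

local notation "O" => RingOfIntegers k
local notation "Pl" => HeightOneSpectrum (RingOfIntegers k)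

theorem exists_multiple {σ : Type*} (h : MvPolynomial σ k) :
    ∃ d : O, d ≠ 0 ∧ ∃ h0 : MvPolynomial σ O, map (algebraMap O k) h0 = C (algebraMap O k d) * h := by
  induction h using MvPolynomial.induction_on with
  | C a =>
    obtain ⟨x, y, hy, rfl⟩ := IsFractionRing.div_surjective O a
    refine ⟨y, nonZeroDivisors.ne_zero hy, C x, ?_⟩
    rw [map_C, ← C_mul, mul_div_cancel₀]
    exact (map_ne_zero_iff _ (IsFractionRing.injective O k)).2 (nonZeroDivisors.ne_zero hy)
  | add p q hp hq =>
    obtain ⟨d, hd, p0, hp0⟩ := hp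
    obtain ⟨e, he, q0, hq0⟩ := hq
    refine ⟨d * e, mul_ne_zero hd he, C e * p0 + C d * q0, ?_⟩
    rw [map_add, map_mul, map_mul, map_C, map_C, hp0, hq0, map_mul, C_mul]
    ring
  | mul_X p i hp =>
    obtain ⟨d, hd, p0, hp0⟩ := hp
    exact ⟨d, hd, p0 * X i, by rw [map_mul, hp0, map_X, mul_assoc]⟩

/-- Clearing denominators in an ideal. -/
theorem exists_multiple_mem {σ : Type*} {m : ℕ} (f : Fin m → MvPolynomial σ O) {r : MvPolynomial σ k}
    (hr : r ∈ Ideal.span (Set.range fun j => map (algebraMap O k) (f j))) :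
    ∃ d : O, d ≠ 0 ∧ ∃ r0 ∈ Ideal.span (Set.range f),
      map (algebraMap O k) r0 = C (algebraMap O k d) * r := by
  induction hr using Submodule.span_induction with
  | mem x hx =>
    obtain ⟨j, rfl⟩ := hx
    exact ⟨1, one_ne_zero, f j, Ideal.subset_span ⟨j, rfl⟩, by simp⟩
  | zero => exact ⟨1, one_ne_zero, 0, zero_mem _, by simp⟩
  | add p q _ _ hp hq =>
    obtain ⟨d, hd, p0, hpm, hp0⟩ := hp
    obtain ⟨e, he, q0, hqm, hq0⟩ := hq
    refine ⟨d * e, mul_ne_zero hd he, C e * p0 + C d * q0,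
      add_mem (Ideal.mul_mem_left _ _ hpm) (Ideal.mul_mem_left _ _ hqm), ?_⟩
    rw [map_add, map_mul, map_mul, map_C, map_C, hp0, hq0, map_mul, C_mul]
    ring
  | smul a p _ hp =>
    obtain ⟨d, hd, p0, hpm, hp0⟩ := hp
    obtain ⟨e, he, a0, ha0⟩ := exists_multiple (k := k) a
    refine ⟨e * d, mul_ne_zero he hd, a0 * p0, Ideal.mul_mem_left _ _ hpm, ?_⟩
    rw [map_mul, hp0, ha0, map_mul, C_mul, smul_eq_mul]
    ring

variable {L : Type*} [CommRing L]

theorem val_eval_le_one {σ : Type*} (w : Valuation L ℤᵐ⁰) (ι : O →+* L) (hι : ∀ r, w (ι r) ≤ 1)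
    {x : σ → L} (hx : ∀ i, w (x i) ≤ 1) (p : MvPolynomial σ O) : w (eval₂ ι x p) ≤ 1 := by
  induction p using MvPolynomial.induction_on with
  | C a => rw [eval₂_C]; exact hι a
  | add p q hp hq => rw [eval₂_add]; exact (w.map_add _ _).trans (max_le hp hq)
  | mul_X p i hp => rw [eval₂_mul, eval₂_X, map_mul]; exact mul_le_one' hp (hx i)

theorem val_eval_sub_lt {σ : Type*} (w : Valuation L ℤᵐ⁰) (ι : O →+* L) (hι : ∀ r, w (ι r) ≤ 1)
    {x y : σ → L} (hy : ∀ i, w (y i) ≤ 1) (hxy : ∀ i, w (x i - y i) < 1) (p : MvPolynomial σ O) :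
    w (eval₂ ι x p - eval₂ ι y p) < 1 := by
  have hx : ∀ i, w (x i) ≤ 1 := fun i => by
    rw [← sub_add_cancel (x i) (y i)]
    exact (w.map_add _ _).trans (max_le (hxy i).le (hy i))
  induction p using MvPolynomial.induction_on with
  | C a => simp
  | add p q hp hq =>
    rw [eval₂_add, eval₂_add, add_sub_add_comm]
    exact (w.map_add _ _).trans_lt (max_lt hp hq)
  | mul_X p i hp =>
    rw [eval₂_mul, eval₂_mul, eval₂_X, eval₂_X]
    have : eval₂ ι x p * x i - eval₂ ι y p * y i =
        (eval₂ ι x p - eval₂ ι y p) * x i + eval₂ ι y p * (x i - y i) := by ring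
    rw [this]
    refine (w.map_add _ _).trans_lt (max_lt ?_ ?_)
    · rw [map_mul]; exact (mul_le_of_le_one_right' (hx i)).trans_lt hp
    · rw [map_mul]; exact (mul_le_of_le_one_left' (val_eval_le_one w ι hι hy p)).trans_lt (hxy i)

theorem exists_unit_of_mem {σ : Type*} {m : ℕ} (w : Valuation L ℤᵐ⁰) (ι : O →+* L)
    (hι : ∀ r, w (ι r) ≤ 1) {x : σ → L} (hx : ∀ i, w (x i) ≤ 1) (f : Fin m → MvPolynomial σ O)
    {r : MvPolynomial σ O} (hr : r ∈ Ideal.span (Set.range f)) (h1 : w (eval₂ ι x r) = 1) :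
    ∃ j, w (eval₂ ι x (f j)) = 1 := by
  by_contra hcon
  push Not at hcon
  refine absurd h1 (ne_of_lt ?_)
  clear h1
  induction hr using Submodule.span_induction with
  | mem p hp =>
    obtain ⟨j, rfl⟩ := hp
    exact lt_of_le_of_ne (val_eval_le_one w ι hι hx _) (hcon j)
  | zero => simp
  | add p q _ _ hp hq => rw [eval₂_add]; exact (w.map_add _ _).trans_lt (max_lt hp hq)
  | smul a p _ hp =>
    rw [smul_eq_mul, eval₂_mul, map_mul]
    exact (mul_le_of_le_one_left' (val_eval_le_one w ι hι hx a)).trans_lt hp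

theorem exists_root_free (v : Pl) {D : ℕ} (hD : ((Nat.factorial D : ℕ) : O) ∉ v.asIdeal)
    (q : Polynomial O) (hq : q.natDegree ≤ D) (hlead : q.coeff D ∉ v.asIdeal) :
    ∃ s : O, q.eval s ∉ v.asIdeal := by
  by_contra hcon
  push Not at hcon
  have := v.isPrime
  let π := Ideal.Quotient.mk v.asIdeal
  have hne : q.map π ≠ 0 := fun h => hlead (Ideal.Quotient.eq_zero_iff_mem.1
    (by rw [← Polynomial.coeff_map, h, Polynomial.coeff_zero]))
  have hinj : Function.Injective (fun j : Fin (D + 1) => π ((j : ℕ) : O)) := by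
    intro a b hab
    by_contra hne'
    rcases lt_or_gt_of_ne hne' with h | h
    all_goals
      refine hD ?_
      first
      | exact (Ideal.mem_of_dvd v.asIdeal (by
            have hd : (b : ℕ) - a ∣ Nat.factorial D :=
              Nat.dvd_factorial (by omega) (by omega)
            exact map_dvd (Nat.castRingHom O) hd)
          (by
            show ((Nat.cast : ℕ → O) ((b : ℕ) - a)) ∈ v.asIdeal
            rw [Nat.cast_sub (by omega), ← Ideal.Quotient.eq_zero_iff_mem, map_sub]
            exact sub_eq_zero.2 hab.symm))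
      | exact (Ideal.mem_of_dvd v.asIdeal (by
            have hd : (a : ℕ) - b ∣ Nat.factorial D :=
              Nat.dvd_factorial (by omega) (by omega)
            exact map_dvd (Nat.castRingHom O) hd)
          (by
            show ((Nat.cast : ℕ → O) ((a : ℕ) - b)) ∈ v.asIdeal
            rw [Nat.cast_sub (by omega), ← Ideal.Quotient.eq_zero_iff_mem, map_sub]
            exact sub_eq_zero.2 hab))
  refine hne (Polynomial.eq_zero_of_natDegree_lt_card_of_eval_eq_zero _ hinj (fun j => ?_) ?_)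
  · rw [Polynomial.eval_map, Polynomial.eval₂_at_apply]
    exact Ideal.Quotient.eq_zero_iff_mem.2 (hcon _)
  · rw [Fintype.card_fin]
    exact Nat.lt_succ_of_le (Polynomial.natDegree_map_le.trans hq)

theorem valued_algebraMap (v : Pl) (a : k) :
    Valued.v (algebraMap k (v.adicCompletion k) a) = v.valuation k a := by
  rw [HeightOneSpectrum.algebraMap_adicCompletion]
  exact HeightOneSpectrum.adicCompletion.valued_coe k v a

/-- An open subset of a completion contains a small ball around a point of `k`. -/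
theorem exists_center (v : Pl) (U : Set (v.adicCompletion k)) (hU : IsOpen U) (x : v.adicCompletion k)
    (hx : x ∈ U) (M : ℕ) :
    ∃ q : k, ∃ N : ℕ, M ≤ N ∧ Valued.v (algebraMap k (v.adicCompletion k) q - x) ≤ exp (-(M : ℤ)) ∧
      ∀ a : k, v.valuation k (a - q) ≤ exp (-(N : ℤ)) → algebraMap k (v.adicCompletion k) a ∈ U := by
  obtain ⟨γ, hγ⟩ := Valued.mem_nhds.1 (hU.mem_nhds hx)
  set g := MonoidWithZeroHom.ValueGroup₀.embedding γ.1 with hg
  have hg0 : g ≠ 0 := (map_ne_zero _).2 γ.ne_zero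
  obtain ⟨N, hMN, hN⟩ : ∃ N : ℕ, M ≤ N ∧ exp (-(N : ℤ)) < g := by
    refine ⟨M + (1 - WithZero.log g).toNat, Nat.le_add_right _ _, ?_⟩
    refine lt_of_lt_of_eq (exp_lt_exp.2 ?_) (exp_log hg0)
    rw [Nat.cast_add]
    have := Int.self_le_toNat (1 - WithZero.log g)
    omega
  have hball : IsOpen {y : v.adicCompletion k | Valued.v (y - x) ≤ exp (-(N : ℤ))} := by
    rw [isOpen_iff_mem_nhds]
    intro y hy
    obtain ⟨p, hp⟩ := IsDedekindDomain.HeightOneSpectrum.valuedAdicCompletion_surjective k v (exp (-(N : ℤ)))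
    have hp0 : p ≠ 0 := fun h => exp_pos.ne' (by rw [← hp, h, map_zero])
    refine Valued.mem_nhds.2 ⟨Units.mk0 (Valued.v.restrict p) (by simpa using hp0), fun z hz => ?_⟩
    have h1 : Valued.v (z - y) < exp (-(N : ℤ)) := by
      have := MonoidWithZeroHom.ValueGroup₀.embedding_strictMono hz
      simpa [hp] using this
    show Valued.v (z - x) ≤ _
    rw [← sub_add_sub_cancel z y x]
    exact (Valued.v.map_add _ _).trans (max_le h1.le hy)
  obtain ⟨q, hq⟩ := (HeightOneSpectrum.denseRange_algebraMap k v).exists_mem_open hball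
    ⟨x, by simp⟩
  have hq' : Valued.v (algebraMap k (v.adicCompletion k) q - x) ≤ exp (-(N : ℤ)) := hq
  refine ⟨q, N, hMN, hq'.trans (exp_le_exp.2 (by omega)), fun a ha => hγ ?_⟩
  rw [← valued_algebraMap, map_sub] at ha
  have h1 : Valued.v (algebraMap k (v.adicCompletion k) a - x) ≤ exp (-(N : ℤ)) := by
    rw [← sub_add_sub_cancel (algebraMap k (v.adicCompletion k) a) (algebraMap k _ q) x]
    exact (Valued.v.map_add _ _).trans (max_le ha hq')
  show _ < γ.1
  rw [← MonoidWithZeroHom.ValueGroup₀.embedding_strictMono.lt_iff_lt, ← hg]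
  simpa using h1.trans_lt hN

/-- Coordinatewise centers in an open set of tuples. -/
theorem exists_center_pi {n : ℕ} (v : Pl) (U : Set (Fin n → v.adicCompletion k)) (hU : IsOpen U)
    (x : Fin n → v.adicCompletion k) (hx : x ∈ U) :
    ∃ q : Fin n → k, ∃ N : ℕ, 1 ≤ N ∧
      (∀ i, Valued.v (algebraMap k (v.adicCompletion k) (q i) - x i) ≤ exp (-1 : ℤ)) ∧
      ∀ a : Fin n → k, (∀ i, v.valuation k (a i - q i) ≤ exp (-(N : ℤ))) →
        (fun i => algebraMap k (v.adicCompletion k) (a i)) ∈ U := by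
  obtain ⟨s, hs, hsU⟩ := isOpen_pi_iff'.1 hU x hx
  choose q N hN hq ha using fun i => exists_center v (s i) (hs i).1 (x i) (hs i).2 1
  refine ⟨q, 1 + ∑ i, N i, Nat.le_add_right _ _, fun i => by simpa using hq i,
    fun a h => hsU fun i _ => ha i (a i) ((h i).trans (exp_le_exp.2 ?_))⟩
  have h1 : N i ≤ 1 + ∑ j, N j :=
    (Finset.single_le_sum (fun j _ => Nat.zero_le (N j)) (Finset.mem_univ i)).trans (Nat.le_add_left _ _)
  omega

end NumberField

end Groth.Agent.StrongApproxH28
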